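import Groth.Prelude.Def_EGA4b
import Groth.Prelude.Def_CAlg
import Groth.Agent.Depth.Basic
import Groth.Agent.Depth.FlatLocal
import Mathlib

/-!
Flatness over an Artinian local base from flatness in codimension one, for a ring without embedded
primes whose reduction satisfies `S₂`.
-/

set_option autoImplicit false
universe u
open IsLocalRing RingTheory.Sequence
open scoped Pointwise

namespace Groth.Agent.ArtFibre

section Serre

variable {B : Type u} [CommRing B] [IsNoetherianRing B]

theorem assoc_minimal_of_hasS1 (hS1 : LocCoh.HasSk 1 B B) {p : Ideal B} [p.IsPrime]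
    (hp : p ∈ associatedPrimes B B) : p ∈ minimalPrimes B := by
  have h := hS1 p
  rw [Groth.Agent.Depth.depth_localizedSelf, Groth.Agent.Depth.supportDim_localizedSelf,
    (Groth.Agent.Depth.mem_associatedPrimes_iff_depth_eq_zero p).1 hp,
    IsLocalization.AtPrime.ringKrullDim_eq_height p] at h
  have h0 : p.height = 0 := by
    rcases min_le_iff.1 h with h1 | h1
    · exact absurd (WithBot.coe_le_coe.1 (show (((1 : ℕ∞)) : WithBot ℕ∞) ≤ ((0 : ℕ∞) : WithBot ℕ∞) from h1)) (by simp)
    · exact nonpos_iff_eq_zero.1 (WithBot.coe_le_coe.1 h1)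
  exact Ideal.height_eq_zero_iff.1 h0

theorem exists_pair_of_hasS2 (hS2 : LocCoh.HasSk 2 (B ⧸ nilradical B) (B ⧸ nilradical B))
    (q : Ideal B) [q.IsPrime] (hq : 2 ≤ q.height) :
    ∃ a ∈ q, ∃ b ∈ q, (∀ p ∈ minimalPrimes B, p ≤ q → a ∉ p) ∧
      ∀ u v : B, b * u - a * v ∈ nilradical B →
        ∃ s, s ∉ q ∧ ∃ w, s * u - a * w ∈ nilradical B := by
  set N := nilradical B with hN
  have hNle : ∀ p : Ideal B, p.IsPrime → N ≤ p := fun p hp => by
    rw [hN, nilradical_eq_sInf]; exact sInf_le hp
  let f := Ideal.Quotient.mk N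
  have hmap : ∀ p : Ideal B, p.IsPrime → (p.map f).IsPrime := fun p hp =>
    Ideal.map_isPrime_of_surjective Ideal.Quotient.mk_surjective (by rw [Ideal.mk_ker]; exact hNle p hp)
  have hcomap : ∀ p : Ideal B, p.IsPrime → (p.map f).comap f = p := fun p hp => by
    rw [Ideal.comap_map_of_surjective' _ Ideal.Quotient.mk_surjective, Ideal.mk_ker, sup_eq_left.2 (hNle p hp)]
  haveI := hmap q ‹_›
  let Q := q.map f
  have hh : (q.height : ℕ∞) ≤ Q.height := by
    rw [PrimeSpectrum.height_eq_orderHeight (⟨q, ‹_›⟩ : PrimeSpectrum B),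
      PrimeSpectrum.height_eq_orderHeight (⟨Q, hmap q ‹_›⟩ : PrimeSpectrum (B ⧸ N))]
    have hmono : StrictMono (fun p : PrimeSpectrum B => (⟨p.asIdeal.map f, hmap _ p.2⟩ : PrimeSpectrum (B ⧸ N))) :=
      fun p p' hpp => by
        refine lt_of_le_of_ne (Ideal.map_mono hpp.le) fun h => hpp.ne (PrimeSpectrum.ext ?_)
        rw [← hcomap _ p.2, ← hcomap _ p'.2, show p.asIdeal.map f = p'.asIdeal.map f from congrArg PrimeSpectrum.asIdeal h]
    exact Order.height_le_height_apply_of_strictMono _ hmono ⟨q, ‹_›⟩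
  have h := hS2 Q
  rw [Groth.Agent.Depth.depth_localizedSelf, Groth.Agent.Depth.supportDim_localizedSelf,
    IsLocalization.AtPrime.ringKrullDim_eq_height Q] at h
  let L := Localization.AtPrime Q
  have h2 : (2 : ℕ∞) ≤ LocCoh.depth L L := by
    rcases min_le_iff.1 h with h1 | h1
    · exact WithBot.coe_le_coe.1 h1
    · exact (hq.trans hh).trans (WithBot.coe_le_coe.1 h1)
  have hI : maximalIdeal L • (⊤ : Submodule L L) ≠ ⊤ := by
    rw [smul_eq_mul, Ideal.mul_top]
    exact (maximalIdeal.isMaximal L).ne_top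
  obtain ⟨rs, hlen, hmem, hreg⟩ := (Groth.Agent.Depth.le_idealDepth_iff hI 2).1 h2
  obtain ⟨a', b', rfl⟩ := List.length_eq_two.1 hlen
  rw [isWeaklyRegular_cons_iff, isWeaklyRegular_cons_iff] at hreg
  obtain ⟨ha', hb', -⟩ := hreg
  let g : B →+* L := (algebraMap (B ⧸ N) L).comp f
  have hg : ∀ z : L, ∃ (x : B) (s : B), s ∉ q ∧ z * g s = g x := by
    intro z
    obtain ⟨⟨x, s⟩, hxs⟩ := IsLocalization.surj Q.primeCompl z
    obtain ⟨x, rfl⟩ := Ideal.Quotient.mk_surjective x
    obtain ⟨s', hs'⟩ := Ideal.Quotient.mk_surjective (s : B ⧸ N)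
    refine ⟨x, s', fun hs => s.2 ?_, ?_⟩
    · rw [← hs']; exact Ideal.mem_map_of_mem _ hs
    · show z * algebraMap (B ⧸ N) L (f s') = _
      rw [show f s' = (s : B ⧸ N) from hs']
      exact hxs
  have hunit : ∀ s : B, s ∉ q → IsUnit (g s) := fun s hs =>
    IsLocalization.map_units L (⟨f s, fun h => hs (by rw [← hcomap q ‹_›]; exact h)⟩ : Q.primeCompl)
  have hgq : ∀ x : B, g x ∈ maximalIdeal L → x ∈ q := fun x hx => by
    by_contra h
    exact (mem_maximalIdeal _).1 hx (hunit x h)
  have hker : ∀ x : B, g x = 0 → ∃ s, s ∉ q ∧ s * x ∈ N := by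
    intro x hx
    obtain ⟨⟨c, hc⟩, hcx⟩ := (IsLocalization.map_eq_zero_iff Q.primeCompl L (f x)).1 hx
    obtain ⟨c, rfl⟩ := Ideal.Quotient.mk_surjective c
    refine ⟨c, fun h => hc (Ideal.mem_map_of_mem _ h), ?_⟩
    rw [← Ideal.Quotient.eq_zero_iff_mem, map_mul]
    exact hcx
  obtain ⟨a, sa, hsa, ha⟩ := hg a'
  obtain ⟨b, sb, hsb, hb⟩ := hg b'
  refine ⟨a, hgq a (ha ▸ Ideal.mul_mem_right _ _ (hmem a' (by simp))), b,
    hgq b (hb ▸ Ideal.mul_mem_right _ _ (hmem b' (by simp))), ?_, ?_⟩
  · intro p hp hpq hap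
    haveI : p.IsPrime := hp.1.1
    haveI := hmap p ‹_›
    have hpQ : p.map f ≤ Q := Ideal.map_mono hpq
    have hdisj : Disjoint (Q.primeCompl : Set (B ⧸ N)) (p.map f : Ideal (B ⧸ N)) :=
      Set.disjoint_left.2 fun z hz hz' => hz (hpQ hz')
    haveI := IsLocalization.isPrime_of_isPrime_disjoint Q.primeCompl L (p.map f) ‹_› hdisj
    have hmin : (p.map f).map (algebraMap (B ⧸ N) L) ∈ minimalPrimes L := by
      refine ⟨⟨‹_›, bot_le⟩, fun P hP hle => ?_⟩
      haveI := hP.1
      have h1 : (P.comap (algebraMap (B ⧸ N) L)).comap f ≤ p := by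
        refine le_trans (Ideal.comap_mono (Ideal.comap_mono hle)) ?_
        change Ideal.comap f (((p.map f).map (algebraMap (B ⧸ N) L)).under (B ⧸ N)) ≤ p
        rw [IsLocalization.under_map_of_isPrime_disjoint Q.primeCompl L ‹_› hdisj, hcomap p ‹_›]
      have h2 := hp.2 ⟨inferInstance, bot_le⟩ h1
      rw [← IsLocalization.map_comap Q.primeCompl L P]
      exact Ideal.map_mono ((Ideal.map_mono h2).trans Ideal.map_comap_le)
    have hga : g a ∈ (p.map f).map (algebraMap (B ⧸ N) L) :=
      Ideal.mem_map_of_mem _ (Ideal.mem_map_of_mem _ hap)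
    rw [← ha] at hga
    have : a' ∈ (p.map f).map (algebraMap (B ⧸ N) L) :=
      (Ideal.mul_unit_mem_iff_mem _ (hunit sa hsa)).1 hga
    exact Set.disjoint_left.1 (Ideal.disjoint_nonZeroDivisors_of_mem_minimalPrimes hmin) this
      (mem_nonZeroDivisors_iff.2 ⟨fun x hx => ha'.right_eq_zero_of_smul hx, fun x hx =>
        ha'.right_eq_zero_of_smul (by rw [smul_eq_mul, mul_comm]; exact hx)⟩)
  · intro u v huv
    have h0 : g (b * u - a * v) = 0 := by
      show algebraMap (B ⧸ N) L (f (b * u - a * v)) = 0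
      rw [show f (b * u - a * v) = 0 from Ideal.Quotient.eq_zero_iff_mem.2 huv, map_zero]
    rw [map_sub, map_mul, map_mul, ← hb, ← ha] at h0
    have hz : b' • Submodule.Quotient.mk (p := a' • (⊤ : Submodule L L)) (g u * g sb) = 0 := by
      rw [← Submodule.Quotient.mk_smul, Submodule.Quotient.mk_eq_zero, Submodule.mem_smul_pointwise_iff_exists]
      exact ⟨g sa * g v, trivial, by simp only [smul_eq_mul]; linear_combination -h0⟩
    have hz' := hb'.right_eq_zero_of_smul hz
    rw [Submodule.Quotient.mk_eq_zero, Submodule.mem_smul_pointwise_iff_exists] at hz'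
    obtain ⟨w', -, hw'⟩ := hz'
    obtain ⟨w, sw, hsw, hw⟩ := hg w'
    have h1 : g (sw * sb * sa * u - a * w) = 0 := by
      rw [map_sub, map_mul, map_mul, map_mul, map_mul, ← ha, ← hw]
      simp only [smul_eq_mul] at hw'
      linear_combination -(g sw * g sa) * hw'
    obtain ⟨s, hs, hsN⟩ := hker _ h1
    refine ⟨s * (sw * sb * sa), Ideal.IsPrime.mul_notMem ‹_› hs
      (Ideal.IsPrime.mul_notMem ‹_› (Ideal.IsPrime.mul_notMem ‹_› hsw hsb) hsa), s * w, ?_⟩
    convert hsN using 1
    ring

end Serre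

variable {A : Type u} [CommRing A] [IsLocalRing A] [IsArtinianRing A]
variable {B : Type u} [CommRing B] [Algebra A B]

/-- Every associated prime of `B/JB` is minimal. -/
def Good (J : Ideal A) : Prop :=
  ∀ (q : Ideal B) [q.IsPrime] (x : B), (∀ r ∈ q, r * x ∈ J.map (algebraMap A B)) →
    q ∉ minimalPrimes B → ∃ s, s ∉ q ∧ s * x ∈ J.map (algebraMap A B)

theorem Good.exists_minimal [IsNoetherianRing B] {J : Ideal A} (hJ : Good (B := B) J) (y : B)
    (q : Ideal B) [q.IsPrime] (hy : ∀ s, s * y ∈ J.map (algebraMap A B) → s ∈ q) :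
    ∃ p ∈ minimalPrimes B, p ≤ q ∧ ∀ s, s * y ∈ J.map (algebraMap A B) → s ∈ p := by
  let M := J.map (algebraMap A B)
  let K : B → Ideal B := fun t => M.colon {t * y}
  have hK : ∀ t r, r ∈ K t ↔ r * (t * y) ∈ M := fun t r => by
    simp [K, Submodule.mem_colon_singleton]
  let F : Set (Ideal B) := {P | ∃ t, P = K t ∧ P ≤ q}
  have hF : K 1 ∈ F := ⟨1, rfl, fun r hr => hy r (by simpa using (hK 1 r).1 hr)⟩
  obtain ⟨P, ⟨t, rfl, hPq⟩, hmax⟩ := set_has_maximal_iff_noetherian.2 inferInstance F ⟨_, hF⟩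
  have hprime : (K t).IsPrime := by
    refine ⟨fun h => (‹q.IsPrime›.ne_top) (top_le_iff.1 (h ▸ hPq)), fun {c d} hcd => ?_⟩
    by_contra hcon
    push Not at hcon
    obtain ⟨hc, hd⟩ := hcon
    have hle : K t ≤ K (c * t) := fun r hr => (hK _ r).2 (by
      convert M.mul_mem_left c ((hK t r).1 hr) using 1; ring)
    have hdmem : d ∈ K (c * t) := (hK _ d).2 (by convert (hK t _).1 hcd using 1; ring)
    by_cases h : K (c * t) ≤ q
    · exact hmax _ ⟨c * t, rfl, h⟩ (lt_of_le_not_ge hle fun h' => hd (h' hdmem))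
    · obtain ⟨s, hs, hsq⟩ := Set.not_subset.1 h
      have hle' : K t ≤ K (s * t) := fun r hr => (hK _ r).2 (by
        convert M.mul_mem_left s ((hK t r).1 hr) using 1; ring)
      have hcmem : c ∈ K (s * t) := (hK _ c).2 (by convert (hK _ s).1 hs using 1; ring)
      have hle'' : K (s * t) ≤ q := fun r hr => by
        have : r * s ∈ K t := (hK t _).2 (by convert (hK _ r).1 hr using 1; ring)
        exact (‹q.IsPrime›.mem_or_mem (hPq this)).resolve_right hsq
      exact hmax _ ⟨s * t, rfl, hle''⟩ (lt_of_le_not_ge hle' fun h' => hc (h' hcmem))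
  haveI := hprime
  refine ⟨K t, ?_, hPq, fun s hs => (hK t s).2 (by convert M.mul_mem_left t hs using 1; ring)⟩
  by_contra hmin
  obtain ⟨s, hs, hsy⟩ := hJ (K t) (t * y) (fun r hr => (hK t r).1 hr) hmin
  exact hs ((hK t s).2 hsy)

theorem Good.mem_of_minimal [IsNoetherianRing B] {J : Ideal A} (hJ : Good (B := B) J) (x : B)
    (h : ∀ p ∈ minimalPrimes B, ∃ s, s ∉ p ∧ s * x ∈ J.map (algebraMap A B)) :
    x ∈ J.map (algebraMap A B) := by
  by_contra hx
  let K := (J.map (algebraMap A B)).colon {x}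
  have hK : ∀ r, r ∈ K ↔ r * x ∈ J.map (algebraMap A B) := fun r => by
    simp [K, Submodule.mem_colon_singleton]
  have : K ≠ ⊤ := fun h => hx (by simpa using (hK 1).1 (h ▸ trivial))
  obtain ⟨q, hq, hKq⟩ := Ideal.exists_le_maximal K this
  haveI := hq.isPrime
  obtain ⟨p, hp, -, hp'⟩ := hJ.exists_minimal x q fun s hs => hKq ((hK s).2 hs)
  obtain ⟨s, hs, hsx⟩ := h p hp
  exact hs (hp' s hsx)

theorem map_maximalIdeal_le_nilradical :
    (maximalIdeal A).map (algebraMap A B) ≤ nilradical B := by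
  refine Ideal.map_le_iff_le_comap.2 fun a ha => ?_
  obtain ⟨n, hn⟩ := IsArtinianRing.isNilpotent_jacobson_bot (R := A)
  rw [IsLocalRing.jacobson_eq_maximalIdeal ⊥ bot_ne_top] at hn
  refine ⟨n, ?_⟩
  have h := Ideal.pow_mem_pow ha n
  rw [hn, Ideal.zero_eq_bot, Submodule.mem_bot] at h
  rw [← map_pow, h, map_zero]
  exact zero_mem _

theorem map_le_nilradical {J : Ideal A} (hJ : J ≤ maximalIdeal A) :
    J.map (algebraMap A B) ≤ nilradical B :=
  (Ideal.map_mono hJ).trans map_maximalIdeal_le_nilradical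

/-- An element just above an ideal in an Artinian local ring. -/
theorem exists_socle {I J : Ideal A} (h : I < J) :
    ∃ ε ∈ J, ε ∉ I ∧ ∀ μ ∈ maximalIdeal A, μ * ε ∈ I := by
  obtain ⟨n, hn⟩ := IsArtinianRing.isNilpotent_jacobson_bot (R := A)
  rw [IsLocalRing.jacobson_eq_maximalIdeal ⊥ bot_ne_top] at hn
  classical
  have hex : ∃ k, ∀ x ∈ maximalIdeal A ^ k * J, x ∈ I := ⟨n, fun x hx => by
    rw [hn, Ideal.zero_eq_bot, Submodule.bot_mul] at hx; rw [(Submodule.mem_bot A).1 hx]; exact I.zero_mem⟩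
  rcases hk : Nat.find hex with - | k
  · exfalso
    have := Nat.find_spec hex
    rw [hk] at this
    exact not_le_of_gt h fun x hx => this x (by simpa using hx)
  · have hlt : ¬∀ x ∈ maximalIdeal A ^ k * J, x ∈ I := Nat.find_min hex (by omega)
    push Not at hlt
    obtain ⟨ε, hε, hεI⟩ := hlt
    refine ⟨ε, Ideal.mul_le_right hε, hεI, fun μ hμ => ?_⟩
    have := Nat.find_spec hex
    rw [hk] at this
    refine this _ ?_
    rw [pow_succ', mul_assoc]
    exact Ideal.mul_mem_mul hμ hε

theorem mem_sup_span {I : Ideal A} {ε : A} {x : B}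
    (hx : x ∈ (I ⊔ Ideal.span {ε}).map (algebraMap A B)) :
    ∃ i ∈ I.map (algebraMap A B), ∃ w, x = i + algebraMap A B ε * w := by
  rw [Ideal.map_sup, Ideal.map_span, Set.image_singleton, Submodule.mem_sup] at hx
  obtain ⟨i, hi, y, hy, rfl⟩ := hx
  obtain ⟨w, rfl⟩ := Ideal.mem_span_singleton'.1 hy
  exact ⟨i, hi, w, by rw [mul_comm]⟩

/-- For flat `C` the colon of `JC` by a socle element above `J` is `mC`. -/
theorem mem_of_flat {C : Type u} [CommRing C] [Algebra A C] [Module.Flat A C] {J : Ideal A} {ε : A}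
    (hε : ε ∉ J) {y : C} (hy : algebraMap A C ε * y ∈ J.map (algebraMap A C)) :
    y ∈ (maximalIdeal A).map (algebraMap A C) := by
  obtain ⟨c, hc⟩ : ∃ c : J →₀ C, algebraMap A C ε * y = c.sum fun j z => algebraMap A C (j : A) * z := by
    have : J.map (algebraMap A C) = Ideal.span (Set.range fun j : J => algebraMap A C (j : A)) := by
      rw [Ideal.map]; congr 1; ext z; simp
    rw [this, Ideal.span, Finsupp.mem_span_range_iff_exists_finsupp] at hy
    obtain ⟨c, hc⟩ := hy
    exact ⟨c, hc.symm.trans (Finsupp.sum_congr fun j _ => mul_comm _ _)⟩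
  classical
  let ι := Option (c.support : Finset J)
  let f : ι → A := fun o => o.elim ε fun j => -((j : J) : A)
  let x : ι → C := fun o => o.elim y fun j => c j
  have hrel : ∑ i, f i • x i = 0 := by
    rw [Fintype.sum_option]
    simp only [f, x, Option.elim_none, Option.elim_some, Algebra.smul_def, map_neg, neg_mul,
      Finset.sum_neg_distrib]
    rw [hc, Finsupp.sum, ← Finset.sum_coe_sort]
    exact add_neg_cancel _
  obtain ⟨k, a, z, hxz, hfa⟩ := Module.Flat.isTrivialRelation_of_sum_smul_eq_zero (R := A) (M := C) hrel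
  have hy' : y = x none := rfl
  rw [hy', hxz none]
  refine Submodule.sum_mem _ fun l _ => ?_
  rw [Algebra.smul_def]
  refine Ideal.mul_mem_right _ _ (Ideal.mem_map_of_mem _ ((mem_maximalIdeal _).2 fun hu => hε ?_))
  have h0 := hfa l
  rw [Fintype.sum_option] at h0
  simp only [f, Option.elim_none, Option.elim_some] at h0
  have hmem : ε * a none l ∈ J := by
    rw [eq_neg_of_add_eq_zero_left h0]
    exact J.neg_mem (J.sum_mem fun j _ => J.mul_mem_right _ (J.neg_mem (j : J).2))
  exact (Ideal.mul_unit_mem_iff_mem J hu).1 hmem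

variable [IsNoetherianRing B]

/-- The standing hypothesis in codimension one. -/
def CodimOne (A B : Type u) [CommRing A] [CommRing B] [Algebra A B] : Prop :=
  ∀ (q : Ideal B) [q.IsPrime], q.height ≤ 1 →
      Module.Flat A (Localization.AtPrime q) ∧ IsReduced (EGA4.FibLocRing A B q)

theorem nilpotent_mem_local (hc : CodimOne A B) (q : Ideal B) [q.IsPrime] (hq : q.height ≤ 1)
    {y : Localization.AtPrime q} (hy : IsNilpotent y) :
    y ∈ (maximalIdeal A).map (algebraMap A (Localization.AtPrime q)) := by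
  have hcomap : q.comap (algebraMap A B) = maximalIdeal A :=
    IsLocalRing.eq_maximalIdeal (IsArtinianRing.isMaximal_of_isPrime _)
  haveI : IsReduced (Localization.AtPrime q ⧸ (maximalIdeal A).map (algebraMap A (Localization.AtPrime q))) :=
    hcomap ▸ (hc q hq).2
  rw [← Ideal.Quotient.eq_zero_iff_mem]
  exact (hy.map _).eq_zero

theorem height_minimal {p : Ideal B} (hp : p ∈ minimalPrimes B) : p.height ≤ 1 := by
  haveI : p.IsPrime := hp.1.1
  rw [Ideal.height_eq_zero_iff.2 hp]
  exact zero_le_one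

theorem map_local {J : Ideal A} (q : Ideal B) [q.IsPrime] :
    (J.map (algebraMap A B)).map (algebraMap B (Localization.AtPrime q)) =
      J.map (algebraMap A (Localization.AtPrime q)) := by
  rw [Ideal.map_map, ← IsScalarTower.algebraMap_eq]

/-- `(JB : ε) = N`. -/
theorem colon_eq (hc : CodimOne A B) {J : Ideal A} (hJ : Good (B := B) J) {ε : A} (hε : ε ∉ J)
    (hm : ∀ μ ∈ maximalIdeal A, μ * ε ∈ J) (hJm : J ≤ maximalIdeal A) (x : B) :
    algebraMap A B ε * x ∈ J.map (algebraMap A B) ↔ x ∈ nilradical B := by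
  constructor
  · intro hx
    rw [nilradical_eq_sInf, Submodule.mem_sInf]
    intro (q : Ideal B) (hq : q.IsPrime)
    haveI : q.IsPrime := hq
    obtain ⟨p, hp, hpq⟩ := Ideal.exists_minimalPrimes_le (bot_le : ⊥ ≤ q)
    haveI : p.IsPrime := hp.1.1
    apply hpq
    haveI := (hc p (height_minimal hp)).1
    let C := Localization.AtPrime p
    have h1 : algebraMap A C ε * algebraMap B C x ∈ J.map (algebraMap A C) := by
      rw [← map_local p, IsScalarTower.algebraMap_apply A B C, ← map_mul]
      exact Ideal.mem_map_of_mem _ hx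
    have h2 := mem_of_flat hε h1
    have h3 : algebraMap B C x ∈ maximalIdeal C :=
      le_trans ((map_le_nilradical (B := C) le_rfl)) (fun z hz => (mem_maximalIdeal _).2 fun hu =>
        hu.not_isNilpotent hz) h2
    exact (IsLocalization.AtPrime.to_map_mem_maximal_iff C p x).1 h3
  · intro hx
    refine hJ.mem_of_minimal _ fun p hp => ?_
    haveI : p.IsPrime := hp.1.1
    have h1 := nilpotent_mem_local hc p (height_minimal hp)
      ((mem_nilradical.1 hx).map (algebraMap B (Localization.AtPrime p)))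
    rw [← map_local p, IsLocalization.algebraMap_mem_map_algebraMap_iff p.primeCompl] at h1
    obtain ⟨s, hs, hsx⟩ := h1
    refine ⟨s, hs, ?_⟩
    rw [mul_left_comm]
    generalize hz : s * x = z at hsx
    clear hz
    induction hsx using Submodule.span_induction with
    | mem w hw =>
      obtain ⟨μ, hμ, rfl⟩ := hw
      rw [← map_mul, mul_comm]
      exact Ideal.mem_map_of_mem _ (hm μ hμ)
    | zero => simp
    | add u v _ _ hu hv => rw [mul_add]; exact add_mem hu hv
    | smul r u _ hu => rw [smul_eq_mul, mul_left_comm]; exact Ideal.mul_mem_left _ _ hu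

/-- In codimension at most one, elements outside all minimal primes are regular modulo every `JC`. -/
theorem regular_codim_one (hc : CodimOne A B) (q : Ideal B) [q.IsPrime] (hq : q.height ≤ 1) {a : B}
    (ha : ∀ p ∈ minimalPrimes B, p ≤ q → a ∉ p) (I : Ideal A) :
    I ≤ maximalIdeal A → ∀ y : Localization.AtPrime q,
      algebraMap B (Localization.AtPrime q) a * y ∈ I.map (algebraMap A (Localization.AtPrime q)) →
      y ∈ I.map (algebraMap A (Localization.AtPrime q)) := by
  let C := Localization.AtPrime q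
  haveI := (hc q hq).1
  induction I using WellFoundedGT.induction with
  | _ I ih =>
    intro hI y hy
    by_cases hIm : I = maximalIdeal A
    · subst hIm
      refine nilpotent_mem_local hc q hq ?_
      rw [← mem_nilradical, nilradical_eq_sInf, Submodule.mem_sInf]
      intro (P : Ideal (Localization.AtPrime q)) (hP : P.IsPrime)
      haveI : P.IsPrime := hP
      have hP' : (maximalIdeal A).map (algebraMap A C) ≤ P :=
        (map_le_nilradical (B := C) le_rfl).trans (by rw [nilradical_eq_sInf]; exact sInf_le hP)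
      obtain ⟨P₀, hP₀, hle⟩ := Ideal.exists_minimalPrimes_le (bot_le : ⊥ ≤ P.comap (algebraMap B C))
      haveI : P₀.IsPrime := hP₀.1.1
      have hP₀q : P₀ ≤ q := hle.trans (fun z hz => by
        by_contra h
        exact (inferInstance : P.IsPrime).ne_top (Ideal.eq_top_of_isUnit_mem P hz
          (IsLocalization.map_units C (⟨z, h⟩ : q.primeCompl))))
      have hdisj : Disjoint (q.primeCompl : Set B) P₀ := Set.disjoint_left.2 fun z hz hz' => hz (hP₀q hz')
      haveI := IsLocalization.isPrime_of_isPrime_disjoint q.primeCompl C P₀ ‹_› hdisj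
      have hle' : P₀.map (algebraMap B C) ≤ P := Ideal.map_le_iff_le_comap.2 hle
      refine hle' ((Ideal.IsPrime.mem_or_mem (inferInstance : (P₀.map (algebraMap B C)).IsPrime)
        (x := algebraMap B C a) (y := y) ?_).resolve_left ?_)
      · exact ((map_le_nilradical (B := C) le_rfl).trans (by rw [nilradical_eq_sInf]; exact sInf_le ‹_›)) hy
      · intro h
        rw [← Ideal.mem_comap] at h
        change a ∈ (P₀.map (algebraMap B C)).under B at h
        rw [IsLocalization.under_map_of_isPrime_disjoint q.primeCompl C ‹_› hdisj] at h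
        exact ha P₀ hP₀ hP₀q h
    · obtain ⟨ε, hεm, hεI, hεs⟩ := exists_socle (lt_of_le_of_ne hI hIm)
      have hlt : I < I ⊔ Ideal.span {ε} := lt_of_le_of_ne le_sup_left fun h => hεI
        (h ▸ Submodule.mem_sup_right (Ideal.mem_span_singleton_self ε))
      have hle : I ⊔ Ideal.span {ε} ≤ maximalIdeal A :=
        sup_le hI ((Ideal.span_singleton_le_iff_mem _).2 hεm)
      obtain ⟨i, hi, w, rfl⟩ := mem_sup_span (ih _ hlt hle y (Ideal.map_mono le_sup_left hy))
      have h1 : algebraMap A C ε * (algebraMap B C a * w) ∈ I.map (algebraMap A C) := by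
        have := sub_mem hy (Ideal.mul_mem_left _ (algebraMap B C a) hi)
        convert this using 1
        ring
      have h2 := mem_of_flat hεI h1
      have hlt' : I < maximalIdeal A := lt_of_le_of_ne hI hIm
      have h3 := ih _ hlt' le_rfl w h2
      refine add_mem hi ?_
      clear h1 h2 hy
      induction h3 using Submodule.span_induction with
      | mem w hw =>
        obtain ⟨μ, hμ, rfl⟩ := hw
        rw [← map_mul, mul_comm]
        exact Ideal.mem_map_of_mem _ (hεs μ hμ)
      | zero => simp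
      | add u v _ _ hu hv => rw [mul_add]; exact add_mem hu hv
      | smul r u _ hu => rw [smul_eq_mul, mul_left_comm]; exact Ideal.mul_mem_left _ _ hu

theorem good_bot (hS1 : LocCoh.HasSk 1 B B) : Good (B := B) (⊥ : Ideal A) := by
  intro q _ x hx hq
  simp only [Ideal.map_bot, Ideal.mem_bot] at hx ⊢
  by_contra h
  push Not at h
  refine hq (assoc_minimal_of_hasS1 hS1 ?_)
  refine isAssociatedPrime_iff.2 ⟨inferInstance, x, ?_⟩
  ext r
  rw [Submodule.mem_colon_singleton, Submodule.mem_bot, smul_eq_mul]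
  exact ⟨fun hr => hx r hr, fun hr => by_contra fun hrq => h r hrq hr⟩

theorem good_step (hS2 : LocCoh.HasSk 2 (B ⧸ nilradical B) (B ⧸ nilradical B)) (hc : CodimOne A B)
    {J : Ideal A} (hJ : Good (B := B) J) {ε : A} (hε : ε ∉ J) (hm : ∀ μ ∈ maximalIdeal A, μ * ε ∈ J)
    (hJm : J ⊔ Ideal.span {ε} ≤ maximalIdeal A) : Good (B := B) (J ⊔ Ideal.span {ε}) := by
  classical
  intro q _ x hx hq
  by_cases hq1 : q.height ≤ 1
  · obtain ⟨a, haq, ha⟩ : ∃ a ∈ q, ∀ p ∈ minimalPrimes B, p ≤ q → a ∉ p := by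
      by_contra h
      push Not at h
      have hsub : (q : Set B) ⊆ ⋃ p ∈ (↑((minimalPrimes.finite_of_isNoetherianRing B).toFinset) : Set (Ideal B)) ∩ {p | p ≤ q}, (p : Set B) := by
        intro a ha
        obtain ⟨p, hp, hpq, hap⟩ := h a ha
        exact Set.mem_biUnion ⟨by simpa using hp, hpq⟩ hap
      obtain ⟨p, hp, hqp⟩ : ∃ p ∈ (minimalPrimes.finite_of_isNoetherianRing B).toFinset.filter (fun p => p ≤ q), q ≤ p := by
        refine (Ideal.subset_union_prime ⊥ ⊥ fun p hp _ _ => ?_).1 ?_
        · exact ((Set.Finite.mem_toFinset _).1 (Finset.mem_filter.1 hp).1).1.1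
        · simpa using hsub
      obtain ⟨hp1, hp2⟩ := Finset.mem_filter.1 hp
      exact hq (le_antisymm hp2 hqp ▸ (Set.Finite.mem_toFinset _).1 hp1)
    have h1 : algebraMap B (Localization.AtPrime q) a * algebraMap B (Localization.AtPrime q) x ∈
        (J ⊔ Ideal.span {ε}).map (algebraMap A (Localization.AtPrime q)) := by
      rw [← map_mul, ← map_local q]
      exact Ideal.mem_map_of_mem _ (hx a haq)
    have h2 := regular_codim_one hc q hq1 ha _ hJm _ h1
    rw [← map_local q, IsLocalization.algebraMap_mem_map_algebraMap_iff q.primeCompl] at h2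
    obtain ⟨s, hs, hsx⟩ := h2
    exact ⟨s, hs, hsx⟩
  · obtain ⟨a, haq, b, hbq, ha, hab⟩ := exists_pair_of_hasS2 hS2 q (by
      have := Order.add_one_le_of_lt (not_le.1 hq1)
      rwa [one_add_one_eq_two] at this)
    obtain ⟨j, hj, u, hu⟩ := mem_sup_span (hx a haq)
    obtain ⟨j', hj', v, hv⟩ := mem_sup_span (hx b hbq)
    have hN : b * u - a * v ∈ nilradical B := by
      rw [← colon_eq hc hJ hε hm (le_sup_left.trans hJm)]
      have := sub_mem (Ideal.mul_mem_left _ a hj') (Ideal.mul_mem_left _ b hj)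
      convert this using 1
      linear_combination b * (-hu) + a * hv
    obtain ⟨s, hs, w, hw⟩ := hab u v hN
    have hy : a * (s * x - algebraMap A B ε * w) ∈ J.map (algebraMap A B) := by
      have := add_mem (Ideal.mul_mem_left _ s hj) ((colon_eq hc hJ hε hm (le_sup_left.trans hJm) _).2 hw)
      convert this using 1
      linear_combination s * hu
    by_cases h : ∀ t, t * (s * x - algebraMap A B ε * w) ∈ J.map (algebraMap A B) → t ∈ q
    · obtain ⟨p, hp, hpq, hp'⟩ := hJ.exists_minimal _ q h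
      exact absurd (hp' a hy) (ha p hp hpq)
    · push Not at h
      obtain ⟨t, ht, htq⟩ := h
      refine ⟨t * s, Ideal.IsPrime.mul_notMem ‹_› htq hs, ?_⟩
      rw [show t * s * x = t * (s * x - algebraMap A B ε * w) + algebraMap A B ε * (t * w) by ring]
      exact add_mem (Ideal.map_mono le_sup_left ht) (Ideal.mul_mem_right _ _
        (Ideal.mem_map_of_mem _ (Submodule.mem_sup_right (Ideal.mem_span_singleton_self ε))))

/-- A maximal proper subideal differs by one socle element. -/
theorem exists_sub {J : Ideal A} (hJ : J ≠ ⊥) :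
    ∃ (I : Ideal A) (ε : A), I < J ∧ ε ∉ I ∧ (∀ μ ∈ maximalIdeal A, μ * ε ∈ I) ∧ J = I ⊔ Ideal.span {ε} := by
  obtain ⟨I, hI, hmax⟩ := set_has_maximal_iff_noetherian.2 inferInstance {I : Ideal A | I < J}
    ⟨⊥, bot_lt_iff_ne_bot.2 hJ⟩
  obtain ⟨ε, hεJ, hεI, hεs⟩ := exists_socle hI
  refine ⟨I, ε, hI, hεI, hεs, le_antisymm ?_ (sup_le hI.le ((Ideal.span_singleton_le_iff_mem _).2 hεJ))⟩
  by_contra h
  exact hmax (I ⊔ Ideal.span {ε}) (lt_of_le_not_ge (sup_le hI.le ((Ideal.span_singleton_le_iff_mem _).2 hεJ)) h)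
    (lt_of_le_of_ne le_sup_left fun he => hεI (he ▸ Submodule.mem_sup_right (Ideal.mem_span_singleton_self ε)))

theorem good_all (hS1 : LocCoh.HasSk 1 B B)
    (hS2 : LocCoh.HasSk 2 (B ⧸ nilradical B) (B ⧸ nilradical B)) (hc : CodimOne A B)
    (J : Ideal A) : J ≤ maximalIdeal A → Good (B := B) J := by
  induction J using WellFoundedLT.induction with
  | _ J ih =>
    intro hJm
    by_cases hJ : J = ⊥
    · subst hJ; exact good_bot hS1
    · obtain ⟨I, ε, hI, hεI, hεs, rfl⟩ := exists_sub hJ
      exact good_step hS2 hc (ih I hI (hI.le.trans hJm)) hεI hεs hJm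

theorem nilradical_eq (hS1 : LocCoh.HasSk 1 B B)
    (hS2 : LocCoh.HasSk 2 (B ⧸ nilradical B) (B ⧸ nilradical B)) (hc : CodimOne A B) :
    nilradical B = (maximalIdeal A).map (algebraMap A B) := by
  refine le_antisymm (fun x hx => (good_all hS1 hS2 hc _ le_rfl).mem_of_minimal x fun p hp => ?_)
    map_maximalIdeal_le_nilradical
  haveI : p.IsPrime := hp.1.1
  have h1 := nilpotent_mem_local hc p (height_minimal hp)
    ((mem_nilradical.1 hx).map (algebraMap B (Localization.AtPrime p)))
  rw [← map_local p, IsLocalization.algebraMap_mem_map_algebraMap_iff p.primeCompl] at h1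
  exact h1

theorem isReduced_fibre (hS1 : LocCoh.HasSk 1 B B)
    (hS2 : LocCoh.HasSk 2 (B ⧸ nilradical B) (B ⧸ nilradical B)) (hc : CodimOne A B) :
    IsReduced (B ⧸ (maximalIdeal A).map (algebraMap A B)) := by
  rw [← Ideal.isRadical_iff_quotient_reduced, ← nilradical_eq hS1 hS2 hc]
  exact Ideal.radical_isRadical _

open TensorProduct in
theorem flat (hS1 : LocCoh.HasSk 1 B B)
    (hS2 : LocCoh.HasSk 2 (B ⧸ nilradical B) (B ⧸ nilradical B)) (hc : CodimOne A B) :
    Module.Flat A B := by
  rw [Module.Flat.iff_rTensor_injective']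
  intro J
  by_cases hJtop : J = ⊤
  · subst hJtop
    exact (LinearEquiv.rTensor B Submodule.topEquiv).injective
  have hJm : J ≤ maximalIdeal A := IsLocalRing.le_maximalIdeal hJtop
  clear hJtop
  induction J using WellFoundedLT.induction with
  | _ J ih =>
    rw [injective_iff_map_eq_zero]
    by_cases hJ : J = ⊥
    · intro ξ _
      subst hJ
      suffices h : ∀ ζ : (⊥ : Ideal A) ⊗[A] B, ζ = 0 from h ξ
      intro ζ
      induction ζ using TensorProduct.induction_on with
      | zero => rfl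
      | tmul j b => rw [show j = 0 from Subtype.ext ((Submodule.mem_bot A).1 j.2), TensorProduct.zero_tmul]
      | add u v hu hv => rw [hu, hv, add_zero]
    · obtain ⟨I, ε, hI, hεI, hεs, hJe⟩ := exists_sub hJ
      have hεJ : ε ∈ J := by rw [hJe]; exact Submodule.mem_sup_right (Ideal.mem_span_singleton_self ε)
      have hIm := hI.le.trans hJm
      let incl := LinearMap.rTensor B (Submodule.inclusion hI.le)
      have hdec : ∀ ξ : J ⊗[A] B, ∃ η b, ξ = incl η + (⟨ε, hεJ⟩ : J) ⊗ₜ[A] b := by
        intro ξ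
        induction ξ using TensorProduct.induction_on with
        | zero => exact ⟨0, 0, by simp⟩
        | tmul j b =>
          obtain ⟨i, hi, y, hy, hiy⟩ := Submodule.mem_sup.1 (show (j : A) ∈ I ⊔ Ideal.span {ε} from hJe ▸ j.2)
          obtain ⟨c, rfl⟩ := Ideal.mem_span_singleton'.1 hy
          refine ⟨(⟨i, hi⟩ : I) ⊗ₜ[A] b, c • b, ?_⟩
          rw [LinearMap.rTensor_tmul, TensorProduct.tmul_smul, TensorProduct.smul_tmul', ← TensorProduct.add_tmul]
          congr 1
          exact Subtype.ext hiy.symm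
        | add u v hu hv =>
          obtain ⟨η, b, rfl⟩ := hu
          obtain ⟨η', b', rfl⟩ := hv
          exact ⟨η + η', b + b', by rw [map_add, TensorProduct.tmul_add]; abel⟩
      have hval : ∀ η : I ⊗[A] B, TensorProduct.lid A B (LinearMap.rTensor B I.subtype η) ∈ I.map (algebraMap A B) := by
        intro η
        induction η using TensorProduct.induction_on with
        | zero => simp
        | tmul i b =>
          simp only [LinearMap.rTensor_tmul, Submodule.coe_subtype, TensorProduct.lid_tmul, Algebra.smul_def]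
          exact Ideal.mul_mem_right _ _ (Ideal.mem_map_of_mem _ i.2)
        | add u v hu hv => simp only [map_add]; exact add_mem hu hv
      have hcomp : ∀ η, LinearMap.rTensor B J.subtype (incl η) = LinearMap.rTensor B I.subtype η := fun η => by
        rw [← LinearMap.comp_apply, ← LinearMap.rTensor_comp]; rfl
      have habs : ∀ b ∈ (maximalIdeal A).map (algebraMap A B), ∀ c : B,
          ∃ η, (⟨ε, hεJ⟩ : J) ⊗ₜ[A] (c * b) = incl η := by
        intro b hb
        induction hb using Submodule.span_induction with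
        | mem w hw =>
          obtain ⟨μ, hμ, rfl⟩ := hw
          intro c
          refine ⟨(⟨μ * ε, hεs μ hμ⟩ : I) ⊗ₜ[A] c, ?_⟩
          rw [LinearMap.rTensor_tmul, mul_comm c, ← Algebra.smul_def, TensorProduct.tmul_smul, TensorProduct.smul_tmul']
          rfl
        | zero => exact fun c => ⟨0, by simp⟩
        | add u v _ _ hu hv =>
          intro c
          obtain ⟨η, hη⟩ := hu c
          obtain ⟨η', hη'⟩ := hv c
          exact ⟨η + η', by rw [mul_add, TensorProduct.tmul_add, hη, hη', map_add]⟩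
        | smul r u _ hu =>
          intro c
          obtain ⟨η, hη⟩ := hu (c * r)
          exact ⟨η, by rw [smul_eq_mul, ← mul_assoc, hη]⟩
      intro ξ hξ
      obtain ⟨η, b, rfl⟩ := hdec ξ
      have h0 : algebraMap A B ε * b ∈ I.map (algebraMap A B) := by
        have h := congrArg (TensorProduct.lid A B) hξ
        rw [map_add, hcomp, map_add, map_zero, LinearMap.rTensor_tmul, Submodule.coe_subtype,
          TensorProduct.lid_tmul, Algebra.smul_def] at h
        rw [eq_neg_of_add_eq_zero_right h]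
        exact neg_mem (hval η)
      have hb := (colon_eq hc (good_all hS1 hS2 hc I hIm) hεI hεs hIm b).1 h0
      rw [nilradical_eq hS1 hS2 hc] at hb
      obtain ⟨η', hη'⟩ := habs b hb 1
      rw [one_mul] at hη'
      rw [hη', ← map_add] at hξ ⊢
      rw [hcomp] at hξ
      rw [(injective_iff_map_eq_zero _).1 (ih I hI hIm) _ hξ, map_zero]

end Groth.Agent.ArtFibre
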